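import Cfsg.Agent.H696.GmnTwE6
import Cfsg.Agent.H308.CA.Defs

/-!
# Carter subgroups: the groups `E₆(q)`, `²E₆(q)`: the statements (S3852, helper607)

`q = r ^ n`, `ε = 1` for `E₆(q)`, `ε = -1` for `²E₆(q)`; `Y = E₆(k)`, `k` the algebraic closure of `ZMod r`.
-/

set_option autoImplicit false
set_option linter.unusedSectionVars false

namespace Cfsg.Agent.H607.Car

open CoxeterSystem Subgroup Cfsg Cfsg.Lie Cfsg.Lie.ChevalleyDatum
open Cfsg.Agent.ChevalleyStructure Cfsg.Agent.ChevalleyStructure.Elts Cfsg.Agent.ChevalleyStructure.CoxeterGeom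
  Cfsg.Agent.ChevalleyStructure.CoxeterGeomTypes Cfsg.Agent.ChevalleyStructure.NPerm
open Cfsg.Agent.Tits.Roots Cfsg.Agent.Tits.Core Cfsg.Agent.Nodes Cfsg.Agent.Nodes.Reps Cfsg.Agent.Nodes.BNOf
  Cfsg.Agent.Nodes.RGDChev Cfsg.Agent.Nodes.Bruhat
open Cfsg.Agent.KFacts.RgdField Cfsg.Agent.KFacts.RgdChevCoord
open Cfsg.Agent.BpExc Cfsg.Agent.BpExc.TorCent Cfsg.Agent.BpExc.TorChev Cfsg.Agent.BpExc.Tow
open Cfsg.Agent.BpExc.TowChev Cfsg.Agent.BpExc.Fr Cfsg.Agent.BpExc.LangFr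
open Cfsg.Agent.BpExc.FamUntw
open Cfsg.Agent.H696.GmnToral Cfsg.Agent.H720.TwFr

/-! ### the Weyl group -/

/-- the Weyl group of type `E₆` -/
abbrev W6 : Type := CoxeterMatrix.E₆.Group

/-- its Coxeter system -/
abbrev cs6 : CoxeterSystem CoxeterMatrix.E₆ W6 := CoxeterMatrix.E₆.toCoxeterSystem

/-- the action on the root lattice `Fin 6 → ℤ` -/
abbrev rp (w : W6) : (Fin 6 → ℤ) → (Fin 6 → ℤ) := fun a => rep cs6 hp6.isCartan w a

/-- the homomorphism of the root lattice with the values `c i` on the simple roots -/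
def val {A : Type*} [AddCommGroup A] (c : Fin 6 → A) (a : Fin 6 → ℤ) : A := ∑ i, a i • c i

/-- `w` fixes the homomorphism `val c` -/
def FixW {A : Type*} [AddCommGroup A] (c : Fin 6 → A) (w : W6) : Prop := ∀ a, val c (rp w a) = val c a

/-- the class modulo the image of the coroot lattice -/
def cl3 (c : Fin 6 → ZMod 3) : ZMod 3 := c 0 + 2 * c 2 + c 4 + 2 * c 5

/-- **T1.** Homomorphisms of the root lattice modulo an odd prime lift to integral ones with the same stabiliser. -/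
def LiftSt : Prop := ∀ l : ℕ, l.Prime → l ≠ 2 → l ≠ 3 → ∀ c : Fin 6 → ZMod l, c ≠ 0 →
  ∃ (m : Fin 6 → ℤ) (u : ZMod l), IsUnit u ∧ (∃ i, Odd (m i)) ∧ (∀ i, c i = u * (m i : ZMod l)) ∧
    ∀ w, FixW c w → FixW m w

/-- **T1'.** The same for `l = 3`, outside of the image of the coroot lattice. -/
def LiftThreeSt : Prop := ∀ c : Fin 6 → ZMod 3, cl3 c ≠ 0 →
  ∃ (m : Fin 6 → ℤ) (u : ZMod 3), IsUnit u ∧ (∃ i, Odd (m i)) ∧ (∀ i, c i = u * (m i : ZMod 3)) ∧
    ∀ w, FixW c w → FixW m w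

/-- the stabiliser is generated by reflections -/
def ReflGen {A : Type*} [AddCommGroup A] (c : Fin 6 → A) : Prop :=
  ∀ w, FixW c w → w ∈ Subgroup.closure {s | ∃ (v : W6) (i : Fin 6), s = v * cs6.simple i * v⁻¹ ∧ val c (rp v (sr i)) = 0}

/-- **T2a.** -/
def ReflZ : Prop := ∀ m : Fin 6 → ℤ, ReflGen m

/-- **T2b.** -/
def ReflTwo : Prop := ∀ c : Fin 6 → ZMod 2, ReflGen c

/-- **T2c.** The non-zero homomorphisms modulo 2 form two orbits. -/
def OrbTwo : Prop := ∃ c₁ : Fin 6 → ZMod 2, c₁ ≠ 0 ∧ ∀ c c' : Fin 6 → ZMod 2, c ≠ 0 → c' ≠ 0 →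
  (¬ ∃ w : W6, ∀ a, val c (rp w a) = val c₁ a) → (¬ ∃ w : W6, ∀ a, val c' (rp w a) = val c₁ a) →
    ∃ w : W6, ∀ a, val c (rp w a) = val c' a

/-! ### the groups -/

/-- the algebraic closure of `ZMod r` -/
abbrev Kb (r : ℕ) [Fact r.Prime] : Type := AlgebraicClosure (ZMod r)

/-- `E₆(k)` -/
abbrev Yb (r : ℕ) [Fact r.Prime] : Type := ↥(chevE6.group (Kb r))

/-- its torus -/
noncomputable abbrev Tb (r : ℕ) [Fact r.Prime] : Subgroup (Yb r) := TT chevE6 (Kb r)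

/-- the system of representatives of the Weyl group -/
abbrev Rb (r : ℕ) [Fact r.Prime] (w : W6) (g : Yb r) : Prop :=
  Rp cs6 (tow hp6 cs6 (locFin_of_isAlgebraic r (Kb r)) r (k := Kb r)).nsys w g

variable (r n : ℕ) [Fact r.Prime] (ε : ℤ) {X : Type} [Group X] (ι : X →* Yb r) (σ : MulAut (Yb r))

/-- `X = E₆^ε(q)`, `q = r ^ n`, embedded by `ι` into `Y`; `σ` is the Steinberg endomorphism. -/
structure Six : Prop where
  inj : Function.Injective ι
  pos : 0 < n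
  eps : ε = 1 ∨ ε = -1
  frob : IsFrob r n σ
  fr : ∃ (g : (Fin 6 → ℤ) ≃+ (Fin 6 → ℤ)) (v : W6), Fr cs6 hp6.isCartan (Tb r) (XX chevE6 6 (Kb r)) σ g ∧
    ∀ a, g a = ε • rp v a
  fix : ∀ x, σ (ι x) = ι x
  desc : ∀ y, σ y = y → ∃ x, ι x = y ^ Int.gcd 3 ((r : ℤ) ^ n - ε)
  nrm : ∀ y, σ y = y → ∀ x, ∃ x', ι x' = y * ι x * y⁻¹

/-- **T3.** Conjugacy under the fixed points of `σ` implies conjugacy in `X`, for elements of prime order `≠ 3, r`. -/
def ConnSt : Prop := ∀ x x' : X, (orderOf x).Prime → orderOf x ≠ 3 → orderOf x ≠ r → ∀ y, σ y = y →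
  y * ι x * y⁻¹ = ι x' → IsConj x x'

/-- **T4.** Elements of order 3 are real or lie in the torus outside of the image of the coroot lattice. -/
def ThreeSt : Prop := r ≠ 3 → (3 : ℤ) ∣ (r : ℤ) ^ n - ε → ∀ x : X, orderOf x = 3 → IsConj x x⁻¹ ∨
  ∀ z t : Yb r, t ∈ Tb r → z⁻¹ * ι x * z = t → ∀ (ω : Kb r) (c : Fin 6 → ZMod 3), orderOf ω = 3 →
    (∀ i, ch hp6 (sr i) t = ω ^ (c i).val) → cl3 c ≠ 0

/-- automorphisms of odd order -/
def AutSt : Prop := ∀ α : MulAut X, Odd (orderOf α) → ∃ (s : Yb r) (j : ℕ),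
  ∀ x, ι (α x) = s * phi chevE6 (Kb r) r j (ι x) * s⁻¹

/-- `z` lies in the torus `v T v⁻¹` on which `σ` acts as `s ↦ s ^ (ε q)`, whose Weyl group is represented in `X`, and
the stabiliser of `z` in the Weyl group is that of an integral homomorphism `m` of the root lattice. -/
structure GoodAt (z : X) (v t : Yb r) (m : Fin 6 → ℤ) : Prop where
  mem : t ∈ Tb r
  eq : ι z = v * t * v⁻¹
  act : ∀ s ∈ Tb r, σ (v * s * v⁻¹) = v * s ^ (ε * (r : ℤ) ^ n) * v⁻¹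
  rep : ∀ w, ∃ x : X, Rb r w (v⁻¹ * ι x * v)
  odd : ∃ i, Odd (m i)
  fixm : ∀ w, (∀ a, IsRoot cs6 hp6.isCartan a → ch hp6 (rp w a) t = ch hp6 a t) → FixW m w
  fixt : ∀ w, FixW m w → ∀ a, IsRoot cs6 hp6.isCartan a → ch hp6 (rp w a) t = ch hp6 a t
  ker : ∀ a, IsRoot cs6 hp6.isCartan a → (ch hp6 a t = 1 ↔ val m a = 0)

/-- `z` is not conjugate to another power of itself -/
def Rigid {X : Type*} [Group X] (z : X) : Prop := ∀ g : X, g * z * g⁻¹ ∈ Subgroup.zpowers z → g * z * g⁻¹ = z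

/-- **T5.** Rigid elements of odd prime order `≠ r` are good. -/
def GoodSt : Prop := ∀ z : X, (orderOf z).Prime → orderOf z ≠ 2 → orderOf z ≠ r → Rigid z →
  ∃ v t m, GoodAt r n ε ι σ z v t m

/-! ### properties of the finite group `X` -/

/-- **T6.** -/
def InvZ (r : ℕ) (X : Type*) [Group X] : Prop := ∀ z : X, (orderOf z).Prime → orderOf z ≠ 2 → orderOf z ≠ r →
  Rigid z → ∃ a : X, orderOf a = 2 ∧ ∀ α : MulAut X, Odd (orderOf α) → α z = z → α a = a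

/-- **T8.** Two classes of involutions. -/
def InvCl (X : Type*) [Group X] (t0 : X) : Prop :=
  orderOf t0 = 2 ∧ ∀ s t : X, orderOf s = 2 → orderOf t = 2 → ¬ IsConj s t0 → ¬ IsConj t t0 → IsConj s t

/-- **T9.** The component `SL₆^ε(q)` of the centralizer of the involution `t0`. -/
def SixJ (X : Type*) [Group X] (t0 : X) : Prop :=
  ∃ (p : ℕ) (_ : p.Prime) (_ : p ≠ 2) (E : Type) (_ : CommRing E) (_ : StarRing E) (_ : H308.CA.Gd E) (_ : CharP E p)
    (j : H308.CA.SU (Fin 6) E →* X), j.ker ≤ Subgroup.center _ ∧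
    (∀ α : MulAut X, α t0 = t0 → ∀ u, ∃ v, α (j u) = j v) ∧
    (∀ u, t0 * j u = j u * t0) ∧
    ∀ u : H308.CA.SU (Fin 6) E, H308.CA.mt u = Matrix.diagonal (fun i : Fin 6 => if (i : ℕ) < 2 then (-1 : E) else 1) → IsConj (j u) t0 ∧ j u ≠ t0

/-- **T10.** (`q` even) the centralizer of a rigid element of odd prime order has even order or a non-solvable
normaliser. -/
def OCSt (X : Type*) [Group X] : Prop := ∀ z : X, (orderOf z).Prime → orderOf z ≠ 2 → Rigid z →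
  Even (Nat.card (Subgroup.centralizer ({z} : Set X))) ∨
    ¬ Group.IsSolvable (Subgroup.normalizer ((Subgroup.centralizer ({z} : Set X) : Subgroup X) : Set X))

end Cfsg.Agent.H607.Car
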