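import Cfsg.Agent.H607.Car.E6Frame

/-!
# `E₆(q)`, `²E₆(q)`: rigid elements are good (S3852, helper607)

* `goodSt` : `GoodSt` from `LiftSt`, `LiftThreeSt`, `ReflZ`, `ConnSt`, `ThreeSt`.
-/

set_option autoImplicit false
set_option linter.unusedSectionVars false

namespace Cfsg.Agent.H607.Car

open CoxeterSystem Subgroup Cfsg Cfsg.Lie Cfsg.Lie.ChevalleyDatum
open Cfsg.Agent.ChevalleyStructure Cfsg.Agent.ChevalleyStructure.Elts Cfsg.Agent.ChevalleyStructure.CoxeterGeom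
  Cfsg.Agent.ChevalleyStructure.CoxeterGeomTypes Cfsg.Agent.ChevalleyStructure.NPerm
open Cfsg.Agent.Tits.Roots Cfsg.Agent.Tits.Core Cfsg.Agent.Nodes Cfsg.Agent.Nodes.Reps Cfsg.Agent.Nodes.BNOf
  Cfsg.Agent.Nodes.RGDChev Cfsg.Agent.Nodes.Bruhat Cfsg.Agent.Nodes.SubComb
open Cfsg.Agent.KFacts.RgdField Cfsg.Agent.KFacts.RgdChevCoord
open Cfsg.Agent.BpExc Cfsg.Agent.BpExc.TorCent Cfsg.Agent.BpExc.TorChev Cfsg.Agent.BpExc.Tow
open Cfsg.Agent.BpExc.TowChev Cfsg.Agent.BpExc.Fr Cfsg.Agent.BpExc.LangFr Cfsg.Agent.BpExc.Pair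
open Cfsg.Agent.BpExc.FamUntw Cfsg.Agent.BpExc.RowsUntw Cfsg.Agent.Nodes.Coroot
open Cfsg.Agent.H696.GmnToral Cfsg.Agent.H696.GmnTor Cfsg.Agent.H696.GmnUntw Cfsg.Agent.H696.GmnTwE6
  Cfsg.Agent.H720.TwFr

variable {r n : ℕ} [Fact r.Prime] {ε : ℤ} {X : Type} [Group X] {ι : X →* Yb r} {σ : MulAut (Yb r)}

/-- **T5.** -/
theorem goodSt (h : Six r n ε ι σ) (hL : LiftSt) (hL3 : LiftThreeSt) (hR : ReflZ) (hC : ConnSt r ι σ)
    (hT : ThreeSt r n ε ι) : GoodSt r n ε ι σ := by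
  intro z hl hl2 hlr hz
  obtain ⟨l, hl0⟩ : ∃ l, l = orderOf z := ⟨_, rfl⟩
  rw [← hl0] at hl hl2 hlr
  have : NeZero l := ⟨hl.ne_zero⟩
  have hιl : ι z ^ l = 1 := by rw [← map_pow, hl0, pow_orderOf_eq_one, map_one]
  obtain ⟨z0, hz0⟩ := TorAll.exists_toral' hp6 r hl hlr hιl
  obtain ⟨g, v₀, Fσ, hg⟩ := h.fr
  have hz1 : z ≠ 1 := by
    intro h1
    rw [h1, orderOf_one] at hl0
    exact hl.one_lt.ne' hl0
  -- fusion
  obtain ⟨y, hy, hyz⟩ : ∃ y, σ y = y ∧ y⁻¹ * ι z * y = ι z ^ (ε * (r : ℤ) ^ n) := by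
    rcases h.eps with h0 | h0
    · obtain ⟨y, hy, hyz⟩ := conj_pow_of_mem hp6 cs6 (hkb r) (hZb r) h.pos h.frob Fσ (h.fix z) hz0
        ⟨v₀, fun a _ => by rw [hg a, h0, one_smul]⟩
      exact ⟨y, hy, by rw [hyz, h0, one_mul]⟩
    · obtain ⟨y, hy, hyz⟩ := conj_pow_of_neg_mem hp6 cs6 (hkb r) (hZb r) h.pos h.frob Fσ (h.fix z) hz0
        ⟨v₀, fun a _ => by rw [hg a, h0, neg_smul, one_smul]⟩
      exact ⟨y, hy, by rw [hyz, h0, neg_one_mul]⟩
  have hz2 : ¬ IsConj z z⁻¹ := by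
    intro hc
    obtain ⟨g, hg⟩ := isConj_iff.1 hc
    have h1 := hz g (by rw [hg]; exact inv_mem (mem_zpowers z))
    rw [hg] at h1
    have h2 : z ^ 2 = 1 := by rw [sq]; nth_rw 1 [← h1]; exact inv_mul_cancel z
    have h3 := orderOf_dvd_of_pow_eq_one h2
    rw [← hl0] at h3
    exact hl2 ((Nat.prime_dvd_prime_iff_eq hl Nat.prime_two).1 h3)
  have hpow : z ^ (ε * (r : ℤ) ^ n) = z := by
    have key : IsConj z (z ^ (ε * (r : ℤ) ^ n)) → z ^ (ε * (r : ℤ) ^ n) = z := by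
      intro hc
      obtain ⟨g, hg⟩ := isConj_iff.1 hc
      have h1 := hz g (by rw [hg]; exact zpow_mem (mem_zpowers z) _)
      rwa [hg] at h1
    by_cases h3 : l = 3
    · by_cases h4 : (3 : ℤ) ∣ (r : ℤ) ^ n - ε
      · obtain ⟨k, hk⟩ := h4
        have e1 : ε * (r : ℤ) ^ n = 1 + 3 * (ε * k) := by
          have e2 : (r : ℤ) ^ n = ε + 3 * k := by rw [← hk]; ring
          have e3 : ε * ε = 1 := by rcases h.eps with h0 | h0 <;> rw [h0] <;> norm_num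
          rw [e2, mul_add, e3]; ring
        have e4 : z ^ (3 : ℤ) = 1 := by
          have := pow_orderOf_eq_one z
          rw [← hl0, h3] at this
          exact_mod_cast this
        rw [e1, zpow_add, zpow_one, zpow_mul, e4, one_zpow, mul_one]
      · have h5 : Int.gcd 3 ((r : ℤ) ^ n - ε) = 1 := by
          have h6 : Int.gcd 3 ((r : ℤ) ^ n - ε) ∣ 3 := Int.gcd_dvd_natAbs_left _ _
          rcases (Nat.dvd_prime Nat.prime_three).1 h6 with h7 | h7
          · exact h7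
          · exfalso
            apply h4
            have h8 := Int.gcd_dvd_right (a := 3) (b := (r : ℤ) ^ n - ε)
            rw [h7] at h8
            exact h8
        obtain ⟨x, hx⟩ := h.desc y hy
        rw [h5, pow_one] at hx
        apply key
        rw [isConj_iff]
        refine ⟨x⁻¹, h.inj ?_⟩
        rw [inv_inv, map_mul, map_mul, map_inv, hx, hyz, map_zpow]
    · exact key (hC z _ (by rw [← hl0]; exact hl) (by rw [← hl0]; exact h3) (by rw [← hl0]; exact hlr) y⁻¹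
        (by rw [map_inv, hy]) (by rw [inv_inv, hyz, map_zpow]))
  have hιpow : ι z ^ (ε * (r : ℤ) ^ n) = ι z := by rw [← map_zpow, hpow]
  obtain ⟨ω, hω⟩ := exists_prim r hl hlr
  have key : ∀ t ∈ Tb r, (∃ z', z'⁻¹ * ι z * z' = t) → ∃ m, MData t m := by
    rintro t ht ⟨z', hz'⟩
    have htl : t ^ l = 1 := by
      have h1 := conj_pow (i := l) (a := z'⁻¹) (b := ι z)
      rw [inv_inv, hz', hιl, mul_one] at h1
      rw [h1]; group
    obtain ⟨c, hc⟩ := exists_exp ht hω htl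
    have hc0 : c ≠ 0 := by
      rintro rfl
      have h1 : t = 1 := by
        refine eq_one_TT hp6 cs6 (hkb r) r (hZb r) ht fun a ha => ?_
        rw [ch_one_iff ht hω hc ha]
        unfold val
        simp
      rw [← hz'] at h1
      have h2 : ι z = 1 := by
        have : ι z = z' * (z'⁻¹ * ι z * z') * z'⁻¹ := by group
        rw [this, h1]; group
      exact hz1 (h.inj (by rw [h2, map_one]))
    by_cases h3 : l = 3
    · subst h3
      have h4 : (3 : ℤ) ∣ (r : ℤ) ^ n - ε := by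
        have e3 : ε * ε = 1 := by rcases h.eps with h0 | h0 <;> rw [h0] <;> norm_num
        have h5 : z ^ (ε * (r : ℤ) ^ n - 1) = 1 := by rw [zpow_sub, hpow, zpow_one, mul_inv_cancel]
        have h6 := orderOf_dvd_iff_zpow_eq_one.2 h5
        rw [← hl0] at h6
        obtain ⟨k, hk⟩ := h6
        refine ⟨ε * k, ?_⟩
        have h7 : ε * (ε * (r : ℤ) ^ n - 1) = ε * (((3 : ℕ) : ℤ) * k) := by rw [hk]
        rw [mul_sub, ← mul_assoc, e3, one_mul, mul_one] at h7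
        rw [h7]; push_cast; ring
      rcases hT hlr.symm h4 z hl0.symm with h5 | h5
      · exact absurd h5 hz2
      · have h6 := h5 z' t ht hz' ω c hω.eq_orderOf.symm hc
        obtain ⟨m, u, -, hodd, hm, hst⟩ := hL3 c h6
        exact ⟨m, mdata ht hl hω hc hodd hm hst⟩
    · obtain ⟨m, u, -, hodd, hm, hst⟩ := hL l hl hl2 h3 c hc0
      exact ⟨m, mdata ht hl hω hc hodd hm hst⟩
  have hrefl : ∀ t ∈ Tb r, (∃ z', z'⁻¹ * ι z * z' = t) → ReflT t := by
    intro t ht hz'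
    obtain ⟨m, hm⟩ := key t ht hz'
    intro w hw
    refine Subgroup.closure_mono ?_ (hR m w (hm.fixm w hw))
    rintro s ⟨v, i, rfl, h0⟩
    exact ⟨v, i, rfl, (hm.ker _ ⟨v, i, rfl⟩).2 h0⟩
  obtain ⟨v, t, ht, e, hact, hrep⟩ := exists_frame h (h.fix z) ⟨z0, hz0⟩ hιpow hrefl
  obtain ⟨m, hm⟩ := key t ht ⟨v, by rw [e]; group⟩
  exact ⟨v, t, m, ht, e, hact, hrep, hm.odd, hm.fixm, hm.fixt, hm.ker⟩

end Cfsg.Agent.H607.Car
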