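import Cfsg.Agent.H607.Car.E6Def
import Cfsg.Agent.H381.Car.RadUntw
import Cfsg.Agent.H696.GmnInv

/-!
# `E₆(q)`, `²E₆(q)`: the embeddings into the algebraic group (S3852, helper607)
-/

set_option autoImplicit false
set_option linter.unusedSectionVars false

namespace Cfsg.Agent.H607.Car

open CoxeterSystem Subgroup Cfsg Cfsg.Lie Cfsg.Lie.ChevalleyDatum
open Cfsg.Agent.ChevalleyStructure Cfsg.Agent.ChevalleyStructure.Elts Cfsg.Agent.ChevalleyStructure.CoxeterGeom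
  Cfsg.Agent.ChevalleyStructure.CoxeterGeomTypes Cfsg.Agent.ChevalleyStructure.NPerm
open Cfsg.Agent.Tits.Roots Cfsg.Agent.Tits.Core Cfsg.Agent.Nodes Cfsg.Agent.Nodes.Reps Cfsg.Agent.Nodes.BNOf
  Cfsg.Agent.Nodes.RGDChev Cfsg.Agent.Nodes.Bruhat
open Cfsg.Agent.KFacts.RgdField Cfsg.Agent.KFacts.RgdChevCoord
open Cfsg.Agent.BpExc Cfsg.Agent.BpExc.TorCent Cfsg.Agent.BpExc.TorChev Cfsg.Agent.BpExc.Tow
open Cfsg.Agent.BpExc.TowChev Cfsg.Agent.BpExc.Fr Cfsg.Agent.BpExc.LangFr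
open Cfsg.Agent.BpExc.FamUntw Cfsg.Agent.BpExc.FamInst Cfsg.Agent.BpExc.RowsUntw
open Cfsg.Agent.GpExc.Field (glMap emb coe_emb glMap_xG emb_injective coe_glMap)
open Cfsg.Agent.H696.GmnToral Cfsg.Agent.H696.GmnUntw Cfsg.Agent.H696.GmnInv Cfsg.Agent.H696.GmnTwE6
  Cfsg.Agent.H720.TwFr

variable {r n : ℕ} [Fact r.Prime]

/-- `E₆(q)` -/
theorem six_untw {F : Type} [Field F] [Fintype F] (f : F →+* Kb r) (hn0 : 0 < n) (hF : Fintype.card F = r ^ n) :
    Six r n 1 (emb hp6.inList f) (phi chevE6 (Kb r) r n) := by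
  have hk : LocFin (Kb r) := locFin_of_isAlgebraic r (Kb r)
  have hZ : center (Yb r) = ⊥ := center_eq_bot_of_simple (S1054.result chevE6 (by simp))
  have : CharP F r := (RingHom.charP_iff_charP f r).2 inferInstance
  have hq1 : 1 ≤ r ^ n := Nat.one_le_pow _ _ (Fact.out : r.Prime).pos
  refine ⟨emb_injective _ f, hn0, Or.inl rfl, phi_isFrob r n, ⟨_, 1, phi_fr hp6 cs6 r hk n, fun a => ?_⟩,
    fun x => phi_emb' hp6 f r hF x, fun y hy => ?_, fun y hy x => ?_⟩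
  · show a = (1 : ℤ) • rep cs6 hp6.isCartan 1 a
    rw [one_smul, map_one, Module.End.one_apply]
  · have hg3 : Int.gcd 3 ((r : ℤ) ^ n - 1) ∣ 3 := Int.gcd_dvd_natAbs_left _ _
    rcases (Nat.dvd_prime Nat.prime_three).1 hg3 with h1 | h1
    · -- `3 ∤ q - 1`
      have hcop : Nat.Coprime (r ^ n - 1) 3 := by
        have e : ((r : ℤ) ^ n - 1) = ((r ^ n - 1 : ℕ) : ℤ) := by
          rw [Nat.cast_sub hq1]; push_cast; rfl
        rw [e] at h1
        have h2 : Int.gcd 3 ((r ^ n - 1 : ℕ) : ℤ) = Nat.gcd 3 (r ^ n - 1) := by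
          exact_mod_cast Int.gcd_natCast_natCast 3 (r ^ n - 1)
        rw [h2] at h1
        exact Nat.coprime_comm.1 h1
      have hy' : glMap chevE6 (frh (Kb r) r n) (y : GL chevE6.Idx (Kb r)) = y := by rw [← phi_glMap r n y, hy]
      obtain ⟨a, ha, t, ht, e⟩ := EmbSplit.untw_split hp6.inList (Emb.fix_iff_range (f := f) (frh_apply r hF)) y.2 hy'
      have hta : t ∈ chevE6.group (Kb r) := by
        have h1 : t = ((emb hp6.inList f ⟨a, ha⟩ : ↥(chevE6.group (Kb r))) : GL chevE6.Idx (Kb r))⁻¹ * y := by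
          rw [coe_emb]
          exact eq_inv_mul_of_mul_eq e.symm
        rw [h1]
        exact mul_mem (inv_mem (SetLike.coe_mem _)) y.2
      have e' : y = emb hp6.inList f ⟨a, ha⟩ * ⟨t, hta⟩ := Subtype.ext e
      have hσt : phi chevE6 (Kb r) r n ⟨t, hta⟩ = ⟨t, hta⟩ := by
        have h1 := hy
        rw [e', map_mul, phi_emb' hp6 f r hF] at h1
        exact mul_left_cancel h1
      have htT : (⟨t, hta⟩ : Yb r) ∈ TT chevE6 (Kb r) := Subgroup.mem_subgroupOf.2 ht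
      obtain ⟨s, -, hs⟩ := torus_range hp6 hk f r cs6 inv_E6 three_ne_zero hZ hF htT hσt
      have hpow : (⟨t, hta⟩ : Yb r) ^ (r ^ n - 1) = 1 := by
        refine eq_one_TT hp6 cs6 hk r hZ (pow_mem htT _) fun a ha => ?_
        have h2 := fr_ch hp6 cs6 hk (phi_isFrob r n) (phi_fr hp6 cs6 r hk n) ha htT
        rw [hσt] at h2
        have h3 : ch hp6 a (⟨t, hta⟩ : Yb r) ≠ 0 := ch_ne_zero hp6 cs6 hk r ha htT
        have h4 : ch hp6 a (⟨t, hta⟩ : Yb r) ^ (r ^ n) = ch hp6 a (⟨t, hta⟩ : Yb r) := h2.symm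
        rw [ch_pow hp6 cs6 hk r ha htT]
        refine mul_right_cancel₀ h3 ?_
        rw [one_mul, ← pow_succ, Nat.sub_add_cancel hq1, h4]
      have hm : (⟨t, hta⟩ : Yb r) ∈ (emb hp6.inList f).range := mem_of_pow hpow hcop ⟨s, hs⟩
      have h5 : y ∈ (emb hp6.inList f).range := by
        rw [e']; exact mul_mem ⟨_, rfl⟩ hm
      obtain ⟨x, hx⟩ := h5
      exact ⟨x, by rw [h1, pow_one]; exact hx⟩
    · rw [h1]
      exact pow_mem_range hp6 hk f r cs6 inv_E6 three_ne_zero hZ hF hy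
  · exact H381.Car.fixed_conj_mem hp6 f hF hy ⟨x, rfl⟩

/-- `²E₆(q)` -/
theorem six_tw {q : ℕ} {K : Type} [Field K] [Fintype K] (f : K →+* Kb r) (hn0 : 0 < n) (hn : q = r ^ n)
    (hK : Fintype.card K = q ^ 2) : Six r n (-1) (em6 q f) (sig6 (Kb r) r n) := by
  have hk : LocFin (Kb r) := locFin_of_isAlgebraic r (Kb r)
  have : CharP K r := (RingHom.charP_iff_charP f r).2 inferInstance
  refine ⟨BpExc.FamTw.Six.em_injective f, hn0, Or.inr rfl, isFrob_sig6 r n, ?_, em6_fix f r hn0 hn hK, fun y hy => ?_,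
    fun y hy x => conj_mem f hn0 hn hK hy ⟨x, rfl⟩⟩
  · obtain ⟨v, hv⟩ := neg_graph hp6 cs6
    exact ⟨_, v, fr_sig6 hk r hp6 cs6 n, fun a => by rw [hv a, neg_smul, one_smul]⟩
  · obtain ⟨x, hx⟩ := desc6 f r hk hn0 hn hK hy
    refine ⟨x, ?_⟩
    rw [hx]
    congr 1
    rw [hn, sub_neg_eq_add]
    have h2 : Int.gcd 3 ((r ^ n + 1 : ℕ) : ℤ) = Nat.gcd 3 (r ^ n + 1) := by
      exact_mod_cast Int.gcd_natCast_natCast 3 (r ^ n + 1)
    rw [← h2]; push_cast; rfl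

end Cfsg.Agent.H607.Car
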