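import Cfsg.Agent.H607.Car.E6Def

/-!
# `E₆(q)`, `²E₆(q)`: elements of the good torus (S3852, helper607)

* `exists_frame` : a toral `σ`-fixed element `x = x ^ (ε q)` whose stabiliser in the Weyl group is generated by
  reflections lies in a torus `v T v⁻¹` on which `σ` acts as `s ↦ s ^ (ε q)`.
-/

set_option autoImplicit false
set_option linter.unusedSectionVars false

namespace Cfsg.Agent.H607.Car

open CoxeterSystem Subgroup Cfsg Cfsg.Lie Cfsg.Lie.ChevalleyDatum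
open Cfsg.Agent.ChevalleyStructure Cfsg.Agent.ChevalleyStructure.Elts Cfsg.Agent.ChevalleyStructure.CoxeterGeom
  Cfsg.Agent.ChevalleyStructure.CoxeterGeomTypes Cfsg.Agent.ChevalleyStructure.NPerm
open Cfsg.Agent.Tits.Roots Cfsg.Agent.Tits.Core Cfsg.Agent.Nodes Cfsg.Agent.Nodes.Reps Cfsg.Agent.Nodes.BNOf
  Cfsg.Agent.Nodes.RGDChev Cfsg.Agent.Nodes.Bruhat Cfsg.Agent.Nodes.SubComb
open Cfsg.Agent.KFacts.RgdField Cfsg.Agent.KFacts.RgdChevCoord
open Cfsg.Agent.BpExc Cfsg.Agent.BpExc.TorCent Cfsg.Agent.BpExc.TorChev Cfsg.Agent.BpExc.Tow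
open Cfsg.Agent.BpExc.TowChev Cfsg.Agent.BpExc.Fr Cfsg.Agent.BpExc.LangFr Cfsg.Agent.BpExc.Pair
open Cfsg.Agent.BpExc.FamUntw Cfsg.Agent.BpExc.RowsUntw Cfsg.Agent.Nodes.Coroot
open Cfsg.Agent.H696.GmnToral Cfsg.Agent.H696.GmnTor Cfsg.Agent.H696.GmnUntw Cfsg.Agent.H696.GmnTwE6
  Cfsg.Agent.H720.TwFr

variable {r n : ℕ} [Fact r.Prime] {ε : ℤ} {X : Type} [Group X] {ι : X →* Yb r} {σ : MulAut (Yb r)}

section Basic

theorem finW : Finite W6 := finite_W hp6 cs6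

theorem hkb (r : ℕ) [Fact r.Prime] : LocFin (Kb r) := locFin_of_isAlgebraic r (Kb r)

theorem hZb (r : ℕ) [Fact r.Prime] : center (Yb r) = ⊥ := center_eq_bot_of_simple (S1054.result chevE6 (by simp))

theorem TLb (r : ℕ) [Fact r.Prime] : TL (Tj hp6 (k := Kb r)) = Tb r := TL_eq hp6 (hkb r)

theorem XLb (r : ℕ) [Fact r.Prime] : XL (Xj hp6 (k := Kb r)) = XX chevE6 6 (Kb r) := XL_eq hp6 (hkb r)

theorem coordsb (r : ℕ) [Fact r.Prime] : Coords cs6 hp6.isCartan (TL (Tj hp6 (k := Kb r))) (nc hp6 (Kb r))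
    (XL (Xj hp6 (k := Kb r))) (xc hp6) (ch hp6) := by
  rw [TLb, XLb]; exact coordsL hp6 cs6 (hkb r) r

theorem chAddb (r : ℕ) [Fact r.Prime] : ChAdd cs6 hp6.isCartan (TL (Tj hp6 (k := Kb r))) (ch (K := Kb r) hp6) := by
  rw [TLb]; exact chAddL hp6 cs6 (hkb r) r

/-- `w` fixes `t` -/
def FixT (t : Yb r) (w : W6) : Prop := ∀ a, IsRoot cs6 hp6.isCartan a → ch hp6 (rp w a) t = ch hp6 a t

/-- the reflections of `t` generate the stabiliser -/
def ReflT (t : Yb r) : Prop := ∀ w, FixT t w → w ∈ Subgroup.closure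
  {s | ∃ (v : W6) (i : Fin 6), s = rfl' cs6 v i ∧ ch hp6 (rp v (sr i)) t = 1}

/-- elements of the reflection subgroup of `t` are represented in `MM t` -/
theorem exists_MM {t : Yb r} (ht : t ∈ Tb r) {w : W6} (hw : w ∈ Subgroup.closure
    {s | ∃ (v : W6) (i : Fin 6), s = rfl' cs6 v i ∧ ch hp6 (rp v (sr i)) t = 1}) :
    ∃ m ∈ MM cs6 hp6.isCartan (XX chevE6 6 (Kb r)) (ch hp6) t, Rb r w m := by
  have := finW
  have ht' : t ∈ TL (Tj hp6 (k := Kb r)) := by rw [TLb]; exact ht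
  induction hw using Subgroup.closure_induction with
  | mem s hs =>
    obtain ⟨v, i, rfl, h1⟩ := hs
    have ha : rp v (sr i) ∈ Sx cs6 hp6.isCartan (ch hp6) t := ⟨⟨v, i, rfl⟩, h1⟩
    obtain ⟨w', i', e, m, hm, hm'⟩ := exists_rfl_MM (tow hp6 cs6 (hkb r) r) (coordsb r) (chAddb r) ht' ha
    rw [XLb] at hm
    refine ⟨m, hm, ?_⟩
    have e1 : rfl' cs6 w' i' = rfl' cs6 v i := by
      refine rep_faithful hp6 cs6 fun b hb => ?_
      rw [Nodes.Coroot.rep_rfl'_eq, Nodes.Coroot.rep_rfl'_eq, ← e]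
    rwa [e1] at hm'
  | one => exact ⟨1, one_mem _, rp_one⟩
  | mul a b _ _ ha hb =>
    obtain ⟨m, hm, hm'⟩ := ha
    obtain ⟨m', hm1, hm2⟩ := hb
    exact ⟨m * m', mul_mem hm hm1, hm'.mul hm2⟩
  | inv a _ ha =>
    obtain ⟨m, hm, hm'⟩ := ha
    exact ⟨m⁻¹, inv_mem hm, hm'.inv⟩

/-! #### values -/

theorem val_add {A : Type*} [AddCommGroup A] (c : Fin 6 → A) (a b : Fin 6 → ℤ) : val c (a + b) = val c a + val c b := by
  unfold val
  rw [← Finset.sum_add_distrib]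
  exact Finset.sum_congr rfl fun i _ => by rw [Pi.add_apply, add_smul]

theorem val_smul {A : Type*} [AddCommGroup A] (c : Fin 6 → A) (m : ℤ) (a : Fin 6 → ℤ) : val c (m • a) = m • val c a := by
  unfold val
  rw [Finset.smul_sum]
  exact Finset.sum_congr rfl fun i _ => by rw [Pi.smul_apply, smul_eq_mul, mul_smul]

theorem val_sub {A : Type*} [AddCommGroup A] (c : Fin 6 → A) (a b : Fin 6 → ℤ) : val c (a - b) = val c a - val c b := by
  have h := val_add c (a - b) b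
  rw [sub_add_cancel] at h
  rw [h, add_sub_cancel_right]

theorem val_zmod {l : ℕ} {c : Fin 6 → ZMod l} {m : Fin 6 → ℤ} {u : ZMod l} (h : ∀ i, c i = u * (m i : ZMod l))
    (a : Fin 6 → ℤ) : val c a = u * ((val m a : ℤ) : ZMod l) := by
  unfold val
  push_cast
  rw [Finset.mul_sum]
  refine Finset.sum_congr rfl fun i _ => ?_
  rw [h i, zsmul_eq_mul, smul_eq_mul]
  push_cast
  ring

/-- the reflections -/
theorem val_refl {A : Type*} [AddCommGroup A] (c : Fin 6 → A) (v : W6) (i : Fin 6) (x : Fin 6 → ℤ) :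
    val c (rp (rfl' cs6 v i) x) = val c x - cpr cs6 hp6.isCartan x (rp v (sr i)) • val c (rp v (sr i)) := by
  have := finW
  show val c (rep cs6 hp6.isCartan (rfl' cs6 v i) x) = _
  rw [Nodes.Coroot.rep_rfl'_eq, val_sub, val_smul]

theorem prod_zpow {F ι' : Type*} [Field F] {w : F} (hw : w ≠ 0) (s : Finset ι') (f : ι' → ℤ) :
    ∏ i ∈ s, w ^ f i = w ^ ∑ i ∈ s, f i := by
  classical
  induction s using Finset.induction_on with
  | empty => simp
  | insert a s ha ih => rw [Finset.prod_insert ha, Finset.sum_insert ha, ih, zpow_add₀ hw]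

/-- characters in terms of exponents -/
theorem ch_iff {t : Yb r} (ht : t ∈ Tb r) {l : ℕ} [NeZero l] {ω : Kb r} (hω : IsPrimitiveRoot ω l)
    {c : Fin 6 → ZMod l} (hc : ∀ i, ch hp6 (sr i) t = ω ^ (c i).val) {a b : Fin 6 → ℤ}
    (ha : IsRoot cs6 hp6.isCartan a) (hb : IsRoot cs6 hp6.isCartan b) :
    ch hp6 a t = ch hp6 b t ↔ val c a = val c b := by
  have hω0 : ω ≠ 0 := hω.ne_zero (NeZero.ne l)
  have key : ∀ a, IsRoot cs6 hp6.isCartan a → ch hp6 a t = ω ^ (∑ i, a i * ((c i).val : ℤ)) := by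
    intro a ha
    rw [← H129.TorusChar.cX_root hp6 cs6 ht ha]
    unfold H129.TorusChar.cX
    rw [← prod_zpow hω0]
    refine Finset.prod_congr rfl fun i _ => ?_
    rw [hc i, ← zpow_natCast, ← zpow_mul, mul_comm]
  have key2 : ∀ a : Fin 6 → ℤ, ((∑ i, a i * ((c i).val : ℤ) : ℤ) : ZMod l) = val c a := by
    intro a
    unfold val
    push_cast
    refine Finset.sum_congr rfl fun i _ => ?_
    rw [zsmul_eq_mul, ZMod.natCast_zmod_val]
  rw [key a ha, key b hb, ← key2, ← key2, ZMod.intCast_eq_intCast_iff_dvd_sub]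
  rw [← div_eq_one_iff_eq (zpow_ne_zero _ hω0), ← zpow_sub₀ hω0, hω.zpow_eq_one_iff_dvd]
  rw [dvd_sub_comm]

theorem exists_prim (r : ℕ) [Fact r.Prime] {l : ℕ} (hl : l.Prime) (hlr : l ≠ r) : ∃ ω : Kb r, IsPrimitiveRoot ω l := by
  have h0 : NeZero ((l : ℕ) : Kb r) := ⟨by
    rw [Ne, CharP.cast_eq_zero_iff (Kb r) r]
    intro h
    exact hlr ((Nat.prime_dvd_prime_iff_eq Fact.out hl).1 h).symm⟩
  obtain ⟨ω, hω⟩ := IsAlgClosed.exists_root (Polynomial.cyclotomic l (Kb r)) (by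
    rw [Polynomial.degree_cyclotomic]
    have := Nat.totient_pos.2 hl.pos
    exact_mod_cast this.ne')
  exact ⟨ω, Polynomial.isRoot_cyclotomic_iff.1 hω⟩

theorem exists_exp {t : Yb r} (ht : t ∈ Tb r) {l : ℕ} [NeZero l] {ω : Kb r} (hω : IsPrimitiveRoot ω l)
    (htl : t ^ l = 1) : ∃ c : Fin 6 → ZMod l, ∀ i, ch hp6 (sr i) t = ω ^ (c i).val := by
  have h1 : ∀ i : Fin 6, ∃ c : ZMod l, ch hp6 (sr i) t = ω ^ c.val := by
    intro i
    have hr := isRoot_sr cs6 hp6.isCartan i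
    have h2 : ch hp6 (sr i) t ^ l = 1 := by
      rw [← ch_pow hp6 cs6 (hkb r) r hr ht, htl, ch_one hp6 cs6 (hkb r) r hr]
    obtain ⟨j, hj, e⟩ := hω.eq_pow_of_pow_eq_one h2
    exact ⟨(j : ZMod l), by rw [ZMod.val_natCast_of_lt hj, e]⟩
  choose c hc using h1
  exact ⟨c, hc⟩

/-- `m` has the stabiliser and the roots of `t` -/
structure MData (t : Yb r) (m : Fin 6 → ℤ) : Prop where
  odd : ∃ i, Odd (m i)
  fixm : ∀ w, FixT t w → FixW m w
  fixt : ∀ w, FixW m w → FixT t w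
  ker : ∀ a, IsRoot cs6 hp6.isCartan a → (ch hp6 a t = 1 ↔ val m a = 0)

theorem fixT_iff {t : Yb r} (ht : t ∈ Tb r) {l : ℕ} [NeZero l] {ω : Kb r} (hω : IsPrimitiveRoot ω l)
    {c : Fin 6 → ZMod l} (hc : ∀ i, ch hp6 (sr i) t = ω ^ (c i).val) (w : W6) : FixT t w ↔ FixW c w := by
  constructor
  · intro h a
    have e1 : a = ∑ i, a i • (sr i : Fin 6 → ℤ) := H129.TorusChar.IsMC.eq_sum_sr a
    have hsum : ∀ (f : Fin 6 → Fin 6 → ℤ), val c (∑ i, a i • f i) = ∑ i, a i • val c (f i) := by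
      intro f
      have h2 : ∀ s : Finset (Fin 6), val c (∑ i ∈ s, a i • f i) = ∑ i ∈ s, a i • val c (f i) := by
        intro s
        induction s using Finset.induction_on with
        | empty => simp [val]
        | insert b s hb ih => rw [Finset.sum_insert hb, Finset.sum_insert hb, val_add, val_smul, ih]
      exact h2 _
    have e2 : rp w a = ∑ i, a i • rp w (sr i) := by
      show rep cs6 hp6.isCartan w a = _
      conv_lhs => rw [e1]
      rw [map_sum]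
      exact Finset.sum_congr rfl fun i _ => map_zsmul _ _ _
    rw [e2, hsum]
    conv_rhs => rw [e1, hsum]
    refine Finset.sum_congr rfl fun i _ => ?_
    have hr := isRoot_sr cs6 hp6.isCartan i
    rw [(ch_iff ht hω hc (hr.act w) hr).1 (h _ hr)]
  · intro h a ha
    exact (ch_iff ht hω hc (ha.act w) ha).2 (h a)

theorem ch_one_iff {t : Yb r} (ht : t ∈ Tb r) {l : ℕ} [NeZero l] {ω : Kb r} (hω : IsPrimitiveRoot ω l)
    {c : Fin 6 → ZMod l} (hc : ∀ i, ch hp6 (sr i) t = ω ^ (c i).val) {a : Fin 6 → ℤ}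
    (ha : IsRoot cs6 hp6.isCartan a) : ch hp6 a t = 1 ↔ val c a = 0 := by
  have h1 := ch_iff (one_mem (Tb r)) hω (c := 0) (fun i => by
    rw [ch_one hp6 cs6 (hkb r) r (isRoot_sr cs6 hp6.isCartan i)]; simp) ha ha
  have hω0 : ω ≠ 0 := hω.ne_zero (NeZero.ne l)
  have key : ch hp6 a t = ω ^ (∑ i, a i * ((c i).val : ℤ)) := by
    rw [← H129.TorusChar.cX_root hp6 cs6 ht ha]
    unfold H129.TorusChar.cX
    rw [← prod_zpow hω0]
    refine Finset.prod_congr rfl fun i _ => ?_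
    rw [hc i, ← zpow_natCast, ← zpow_mul, mul_comm]
  have key2 : ((∑ i, a i * ((c i).val : ℤ) : ℤ) : ZMod l) = val c a := by
    unfold val
    push_cast
    refine Finset.sum_congr rfl fun i _ => ?_
    rw [zsmul_eq_mul, ZMod.natCast_zmod_val]
  rw [key, hω.zpow_eq_one_iff_dvd, ← key2, ZMod.intCast_zmod_eq_zero_iff_dvd]

theorem mdata {t : Yb r} (ht : t ∈ Tb r) {l : ℕ} (hl : l.Prime) {ω : Kb r} (hω : IsPrimitiveRoot ω l)
    {c : Fin 6 → ZMod l} (hc : ∀ i, ch hp6 (sr i) t = ω ^ (c i).val) {m : Fin 6 → ℤ} {u : ZMod l} (hodd : ∃ i, Odd (m i))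
    (hm : ∀ i, c i = u * (m i : ZMod l)) (hst : ∀ w, FixW c w → FixW m w) : MData t m := by
  have : NeZero l := ⟨hl.ne_zero⟩
  have := finW
  refine ⟨hodd, fun w hw => hst w ((fixT_iff ht hω hc w).1 hw), fun w hw => (fixT_iff ht hω hc w).2 fun a => ?_,
    fun a ha => ?_⟩
  · rw [val_zmod hm, val_zmod hm, hw a]
  · rw [ch_one_iff ht hω hc ha]
    constructor
    · intro h0
      obtain ⟨v, i, rfl⟩ := id ha
      have h1 : FixW c (rfl' cs6 v i) := fun x => by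
        rw [val_refl]
        show val c x - _ • val c (rep cs6 hp6.isCartan v (sr i)) = _
        rw [h0, smul_zero, sub_zero]
      have h2 := hst _ h1 (rep cs6 hp6.isCartan v (sr i))
      rw [val_refl] at h2
      have h3 : cpr cs6 hp6.isCartan (rp v (sr i)) (rp v (sr i)) = 2 := Nodes.Coroot.cpr_self cs6 hp6.isCartan ha
      rw [h3] at h2
      have h4 : (2 : ℤ) • val m (rp v (sr i)) = 0 := by
        have := sub_eq_self.1 h2
        exact this
      have h5 := (smul_eq_zero.1 h4).resolve_left two_ne_zero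
      exact h5
    · intro h0
      rw [val_zmod hm, h0, Int.cast_zero, mul_zero]

end Basic

/-! ### the frame -/

section Frame

/-- **The good torus.** -/
theorem exists_frame (h : Six r n ε ι σ) {x : Yb r} (hσx : σ x = x) (hz : ∃ z, z⁻¹ * x * z ∈ Tb r)
    (hpow : x ^ (ε * (r : ℤ) ^ n) = x) (hrefl : ∀ t ∈ Tb r, (∃ z, z⁻¹ * x * z = t) → ReflT t) :
    ∃ v t : Yb r, t ∈ Tb r ∧ x = v * t * v⁻¹ ∧
      (∀ s ∈ Tb r, σ (v * s * v⁻¹) = v * s ^ (ε * (r : ℤ) ^ n) * v⁻¹) ∧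
      ∀ w, ∃ x : X, Rb r w (v⁻¹ * ι x * v) := by
  have := finW
  obtain ⟨g, v₀, Fσ, hg⟩ := h.fr
  obtain ⟨z, hz⟩ := hz
  obtain ⟨z', t, k', g', w₁, ht, h1, h2, hF, F', htt, hw₁, hw₁a⟩ :=
    frame_of_toral hp6 cs6 (hkb r) h.pos h.frob Fσ hσx hz
  have hεε : ε * ε = 1 := by rcases h.eps with h0 | h0 <;> rw [h0] <;> norm_num
  -- `w₂ = w₁ v₀` fixes `t`
  have hg' : ∀ a, IsRoot cs6 hp6.isCartan a → g' a = ε • rp (w₁ * v₀) a := by
    intro a ha
    rw [hw₁a a ha, hg, map_zsmul]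
    show _ = ε • rep cs6 hp6.isCartan (w₁ * v₀) a
    rw [rep_mul_apply]
  have htpow : t ^ (ε * (r : ℤ) ^ n) = t := by
    rw [← h1]
    have h3 := conj_zpow (i := ε * (r : ℤ) ^ n) (a := z'⁻¹) (b := x)
    rw [inv_inv] at h3
    rw [h3, hpow]
  have hfix : FixT t (w₁ * v₀) := by
    intro a ha
    have h3 := fr_ch hp6 cs6 (hkb r) hF F' ha ht
    rw [htt, hg' a ha] at h3
    have h4 : ch hp6 a t = ch hp6 a t ^ (ε * (r : ℤ) ^ n) := by
      rw [← ch_zpow hp6 cs6 (hkb r) r ha ht, htpow]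
    have h5 : ch hp6 a t ^ (r ^ n : ℕ) = ch hp6 a t ^ ((r : ℤ) ^ n) := by
      push_cast [← zpow_natCast]
      rfl
    rw [h5] at h3
    rcases h.eps with h0 | h0
    · rw [h0, one_smul] at h3
      rw [h0, one_mul] at h4
      exact h3.trans h4.symm
    · rw [h0, neg_smul, one_smul, ch_neg hp6 cs6 (hkb r) r (ha.act _) ht] at h3
      rw [h0, neg_one_mul, zpow_neg] at h4
      rw [h4, ← h3, inv_inv]
  obtain ⟨m, hm, hmw⟩ := exists_MM ht (hrefl t ht ⟨z', h1⟩ _ hfix)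
  -- Lang
  have hS : ∀ a ∈ Sx cs6 hp6.isCartan (ch hp6) t, g' a ∈ Sx cs6 hp6.isCartan (ch hp6) t := by
    have ht' : t ∈ TL (Tj hp6 (k := Kb r)) := by rw [TLb]; exact ht
    have F3 : Fr cs6 hp6.isCartan (TL (Tj hp6 (k := Kb r))) (XL (Xj hp6 (k := Kb r))) (MulAut.conj k' * σ) g' := by
      rw [TLb, XLb]; exact F'
    have h3 := fun a => F3.mem_Sx (coordsb r) ht' htt a
    intro a ha
    exact (h3 a).2 ha
  obtain ⟨y, hy, hym⟩ := lang_fr hp6 cs6 h.pos hF F' (S := Sx cs6 hp6.isCartan (ch hp6) t) (fun a ha => ha.1) hS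
    (inv_mem hm)
  have hyt : t * y = y * t := by
    have h3 := MM_le_centralizer (coordsL hp6 cs6 (hkb r) r) ht hy
    rw [Subgroup.mem_centralizer_singleton_iff] at h3
    exact h3.symm
  -- the new frame
  have F0 := Fr.conj (tow hp6 cs6 (hkb r) r (k := Kb r)) hmw.inv
  rw [TLb, XLb] at F0
  have F2 := F0.mul F'
  have hF2 : IsFrob r n (MulAut.conj m⁻¹ * (MulAut.conj k' * σ)) := hF.conj_mul m⁻¹
  set τ := MulAut.conj m⁻¹ * (MulAut.conj k' * σ) with hτ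
  have hg2 : ∀ a, IsRoot cs6 hp6.isCartan a → (g'.trans (repAut cs6 hp6.isCartan (w₁ * v₀)⁻¹)) a = ε • a := by
    intro a ha
    show repAut cs6 hp6.isCartan (w₁ * v₀)⁻¹ (g' a) = ε • a
    rw [repAut_apply, hg' a ha, map_zsmul]
    congr 1
    show rep cs6 hp6.isCartan (w₁ * v₀)⁻¹ (rep cs6 hp6.isCartan (w₁ * v₀) a) = a
    rw [← rep_mul_apply, inv_mul_cancel, map_one, Module.End.one_apply]
  set v := z' * y with hv
  have hσv : σ v = v * (m⁻¹ * k') := by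
    have e1 : σ z' = z' * k' := by rw [← h2]; group
    have e2 : m⁻¹ = y⁻¹ * (k' * σ y * k'⁻¹) := hym
    rw [hv, map_mul, e1, e2]
    group
  have hconj : ∀ s, σ (v * s * v⁻¹) = v * τ s * v⁻¹ := by
    intro s
    rw [map_mul, map_mul, map_inv, hσv]
    show _ = v * (m⁻¹ * (k' * σ s * k'⁻¹) * m⁻¹⁻¹) * v⁻¹
    group
  have hact : ∀ s ∈ Tb r, τ s = s ^ (ε * (r : ℤ) ^ n) := by
    intro s hs
    refine ext_TT hp6 cs6 (hkb r) r (hZb r) ((F2.tor s).2 hs) (zpow_mem hs _) fun a ha => ?_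
    have h3 := fr_ch hp6 cs6 (hkb r) hF2 F2 ha hs
    have h5 : ch hp6 a s ^ (r ^ n : ℕ) = ch hp6 a s ^ ((r : ℤ) ^ n) := by
      push_cast [← zpow_natCast]
      rfl
    rw [hg2 a ha, h5] at h3
    rw [ch_zpow hp6 cs6 (hkb r) r ha hs]
    rcases h.eps with h0 | h0
    · rw [h0, one_smul] at h3
      rw [h0, one_mul]
      exact h3
    · rw [h0, neg_smul, one_smul, ch_neg hp6 cs6 (hkb r) r ha ((F2.tor s).2 hs)] at h3
      rw [h0, neg_one_mul, zpow_neg, ← h3, inv_inv]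
  -- lifts of the simple reflections
  have hodd : Odd (Int.gcd 3 ((r : ℤ) ^ n - ε)) := by
    have h3 : Int.gcd 3 ((r : ℤ) ^ n - ε) ∣ 3 := Int.gcd_dvd_natAbs_left _ _
    rcases (Nat.dvd_prime Nat.prime_three).1 h3 with h4 | h4 <;> rw [h4] <;> decide
  have hsimple : ∀ i : Fin 6, ∃ s : X, Rb r (cs6.simple i) (v⁻¹ * ι s * v) := by
    intro i
    obtain ⟨q, hq, hqf⟩ := exists_fixed_rp hp6 cs6 (hkb r) (hZb r) h.pos hF2 F2 (w := cs6.simple i) (fun a ha => by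
      rw [hg2 a ha, hg2 _ (ha.act _), map_zsmul])
    obtain ⟨s, hs⟩ := h.desc (v * q * v⁻¹) (by rw [hconj, hqf])
    refine ⟨s, ?_⟩
    have h3 : v⁻¹ * ι s * v = q ^ Int.gcd 3 ((r : ℤ) ^ n - ε) := by
      rw [hs, conj_pow]; group
    rw [h3]
    obtain ⟨c, hc⟩ := hodd
    have h4 : ∀ c : ℕ, Rb r (cs6.simple i) (q ^ (2 * c + 1)) := by
      intro c
      induction c with
      | zero => rw [mul_zero, zero_add, pow_one]; exact hq
      | succ c ih =>
        have h5 := (ih.mul hq).mul hq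
        rw [mul_assoc (cs6.simple i), cs6.simple_mul_simple_self, mul_one] at h5
        have e : q ^ (2 * (c + 1) + 1) = q ^ (2 * c + 1) * q * q := by
          rw [show 2 * (c + 1) + 1 = 2 * c + 1 + 1 + 1 by ring, pow_succ, pow_succ]
        rwa [e]
    rw [hc]
    exact h4 c
  refine ⟨v, t, ht, ?_, fun s hs => by rw [hconj, hact s hs], fun w => ?_⟩
  · have e1 : x = z' * t * z'⁻¹ := by rw [← h1]; group
    rw [hv, e1]
    calc z' * t * z'⁻¹ = z' * (t * y) * y⁻¹ * z'⁻¹ := by group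
      _ = _ := by rw [hyt]; group
  · obtain ⟨ω, rfl⟩ := cs6.wordProd_surjective w
    induction ω with
    | nil => exact ⟨1, by rw [wordProd_nil, map_one, mul_one, inv_mul_cancel]; exact rp_one⟩
    | cons i ω ih =>
      obtain ⟨s, hs⟩ := ih
      obtain ⟨s', hs'⟩ := hsimple i
      refine ⟨s' * s, ?_⟩
      have e : v⁻¹ * ι (s' * s) * v = (v⁻¹ * ι s' * v) * (v⁻¹ * ι s * v) := by
        rw [map_mul]; group
      rw [wordProd_cons, e]
      exact hs'.mul hs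

end Frame

end Cfsg.Agent.H607.Car
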